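import Cfsg.Agent.PComp40.Defs
import Cfsg.Agent.Lib.Transfer.Residual
import Cfsg.Agent.Lib.Transfer.Focal
import Cfsg.Agent.Lib.Coprime.SchurZassenhaus
import Cfsg.Agent.Lib.BlocksCore.PPart
import Mathlib.GroupTheory.FixedPointFree
import Mathlib.GroupTheory.SchurZassenhaus

/-!
# The group theory of S3297

Centralizers of elements of the Sylow subgroup, the normalizer, and the Frobenius group attached to
it.
-/

set_option autoImplicit false
set_option linter.style.haveILetI false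
set_option linter.unusedSectionVars false

namespace Cfsg.Agent.PComp40

open Subgroup

universe u

variable {G : Type u} [Group G] {p : ℕ} {P : Sylow p G}

/-! ### The frame -/

namespace Frame

variable {L : Type u} [Group L] (F : Frame P L)

theorem card_centralizer {k : F.K} (hk : k ≠ 1) :
    Nat.card ↥((P : Subgroup G) ⊓ Subgroup.centralizer ({F.ι k} : Set G)) =
      Nat.card ↥(Subgroup.centralizer ({(k : L)} : Set L)) := by
  have hle := F.centralizer_le (k : L) k.2 fun h => hk (Subtype.ext h)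
  let f : ↥(Subgroup.centralizer ({(k : L)} : Set L)) →
      ↥((P : Subgroup G) ⊓ Subgroup.centralizer ({F.ι k} : Set G)) := fun c =>
    ⟨F.ι ⟨c, hle c.2⟩, F.ι_mem _, mem_centralizer_singleton_iff.2 (by
      rw [← map_mul, ← map_mul]
      exact congrArg F.ι (Subtype.ext (mem_centralizer_singleton_iff.1 c.2)))⟩
  refine Eq.symm (Nat.card_eq_of_bijective f ⟨fun a b hab => ?_, fun y => ?_⟩)
  · have e : F.ι ⟨a, hle a.2⟩ = F.ι ⟨b, hle b.2⟩ :=
      congrArg (fun t : ↥((P : Subgroup G) ⊓ Subgroup.centralizer ({F.ι k} : Set G)) => (t : G)) hab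
    have := F.ι_injective e
    exact Subtype.ext (congrArg (fun t : F.K => (t : L)) this)
  · obtain ⟨c, hc⟩ := F.exists_ι_eq y.2.1
    have hy := mem_centralizer_singleton_iff.1 y.2.2
    rw [← hc, ← map_mul, ← map_mul] at hy
    refine ⟨⟨(c : L), mem_centralizer_singleton_iff.2 ?_⟩, Subtype.ext hc⟩
    exact congrArg (fun t : F.K => (t : L)) (F.ι_injective hy)

theorem one_lt_index [Finite L] : 1 < F.K.index := by
  have h0 : F.K.index ≠ 0 := Subgroup.index_ne_zero_of_finite
  have h1 : F.K.index ≠ 1 := fun h => F.ne_top (Subgroup.index_eq_one.1 h)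
  omega

/-- An involution outside the kernel inverts it. -/
theorem commute_of_even_index [Finite G] [Finite L] [hpf : Fact p.Prime] (hp : p ≠ 2)
    (he : Even F.K.index) :
    ∀ a ∈ (P : Subgroup G), ∀ b ∈ (P : Subgroup G), a * b = b * a := by
  have h2 : 2 ∣ Nat.card L := he.two_dvd.trans ⟨Nat.card F.K, by
    rw [mul_comm]; exact F.K.card_mul_index.symm⟩
  obtain ⟨t, ht⟩ := exists_prime_orderOf_dvd_card' (hp := ⟨Nat.prime_two⟩) 2 h2
  have htK : t ∉ F.K := fun htm => by
    have hd : orderOf t ∣ Nat.card F.K := Subgroup.orderOf_dvd_natCard _ htm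
    obtain ⟨n, hn⟩ := IsPGroup.iff_card.1 P.2
    rw [ht, Nat.card_congr F.iso.toEquiv, hn] at hd
    exact hp ((Nat.prime_dvd_prime_iff_eq Nat.prime_two hpf.out).1
      (Nat.prime_two.dvd_of_dvd_pow hd)).symm
  let φ : F.K →* F.K := (MulAut.conjNormal t : MulAut F.K).toMonoidHom
  have htt : t * t = 1 := by rw [← pow_two, ← ht]; exact pow_orderOf_eq_one t
  have hφ : MonoidHom.FixedPointFree φ := fun k hk => by
    by_contra hk1
    refine htK (F.centralizer_le (k : L) k.2 (fun h => hk1 (Subtype.ext h))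
      (mem_centralizer_singleton_iff.2 ?_))
    have h : t * (k : L) * t⁻¹ = k := by
      rw [← MulAut.conjNormal_apply]
      exact congrArg (fun z : F.K => (z : L)) hk
    exact mul_inv_eq_iff_eq_mul.1 h
  have hinv : Function.Involutive φ := fun k => Subtype.ext (by
    show ((MulAut.conjNormal t (MulAut.conjNormal t k) : F.K) : L) = k
    rw [MulAut.conjNormal_apply, MulAut.conjNormal_apply,
      show t * (t * (k : L) * t⁻¹) * t⁻¹ = (t * t) * k * (t * t)⁻¹ by group, htt]
    simp)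
  intro a ha b hb
  obtain ⟨c, hc⟩ := F.exists_ι_eq ha
  obtain ⟨d, hd⟩ := F.exists_ι_eq hb
  rw [← hc, ← hd, ← map_mul, ← map_mul, (hφ.commute_all_of_involutive hinv c d).eq]

end Frame

/-! ### Centralizers -/

variable [Finite G] [hpf : Fact p.Prime]

/-- Every centralizer of a nontrivial element of `P` is `p`-nilpotent, with Sylow subgroup the
centralizer in `P`. -/
theorem Hyp.kernels (h : Hyp P) : Kernels P := by
  intro x hx hx1
  set C := Subgroup.centralizer ({x} : Set G) with hC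
  obtain ⟨k, hk⟩ : ∃ k, orderOf x = p ^ k := by
    obtain ⟨k, hk⟩ := IsPGroup.iff_orderOf.1 P.2 ⟨x, hx⟩
    exact ⟨k, by rw [← hk, Subgroup.orderOf_mk]⟩
  have hpx : p ∣ orderOf x := by
    rw [hk]
    refine dvd_pow_self p fun h0 => hx1 (orderOf_eq_one_iff.1 ?_)
    rw [hk, h0, pow_zero]
  set y := x ^ (orderOf x / p) with hy
  have hyo : orderOf y = p := orderOf_pow_orderOf_div (orderOf_pos x).ne' hpx
  have hnc : Cfsg.HasNormalPComplement p C := by
    refine Transfer.hasNormalPComplement_mono ?_ (h.cent y (pow_mem hx _) hyo)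
    intro c hc
    rw [mem_centralizer_singleton_iff] at hc ⊢
    exact ((show Commute c x from hc).pow_right _).eq
  refine ⟨pResidual p C, inferInstance, Transfer.hasNormalPComplement_iff_not_dvd.1 hnc,
    fun z hz => Transfer.mem_pResidual_of_coprime
      ((hpf.out.coprime_iff_not_dvd.2 hz).symm), ?_⟩
  have hQ : IsPGroup p (((P : Subgroup G) ⊓ C).subgroupOf C) :=
    (P.2.to_le inf_le_left).comap_subtype
  obtain ⟨S, hS⟩ := hQ.exists_le_sylow
  rw [(Transfer.isComplement'_pResidual hnc S).symm.index_eq_card]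
  have hcardS : Nat.card (((S : Subgroup C).map C.subtype : Subgroup G)) = Nat.card (S : Subgroup C) :=
    (Nat.card_congr (Subgroup.equivMapOfInjective _ _ C.subtype_injective).toEquiv).symm
  rw [← hcardS]
  obtain ⟨R, hR⟩ := (S.2.map C.subtype).exists_le_sylow
  obtain ⟨g, hg⟩ := MulAction.exists_smul_eq G R P
  have hle : ∀ s ∈ (S : Subgroup C).map C.subtype, g * s * g⁻¹ ∈ (P : Subgroup G) := fun s hs => by
    rw [← hg, Sylow.coe_subgroup_smul]
    exact Subgroup.smul_mem_pointwise_smul s (MulAut.conj g) _ (hR hs)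
  have hxC : x ∈ C := mem_centralizer_singleton_iff.2 rfl
  have hxS : x ∈ (S : Subgroup C).map C.subtype := ⟨⟨x, hxC⟩, hS ⟨hx, hxC⟩, rfl⟩
  obtain ⟨n, hn, hnx⟩ := h.fusion x hx _ (hle x hxS) ⟨g, rfl⟩
  have hc : ∀ s ∈ (S : Subgroup C).map C.subtype,
      n⁻¹ * g * s * (n⁻¹ * g)⁻¹ ∈ (P : Subgroup G) ⊓ C := fun s hs => by
    refine ⟨?_, mem_centralizer_singleton_iff.2 ?_⟩
    · have := (Subgroup.mem_normalizer_iff.1 (inv_mem hn) _).1 (hle s hs)
      have e : n⁻¹ * g * s * (n⁻¹ * g)⁻¹ = n⁻¹ * (g * s * g⁻¹) * n⁻¹⁻¹ := by group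
      rw [e]
      exact this
    · obtain ⟨s', -, rfl⟩ := hs
      have hs' : (s' : G) * x = x * s' := mem_centralizer_singleton_iff.1 s'.2
      have hcx : n⁻¹ * g * x * (n⁻¹ * g)⁻¹ = x := by
        rw [show n⁻¹ * g * x * (n⁻¹ * g)⁻¹ = n⁻¹ * (g * x * g⁻¹) * n by group, ← hnx]
        group
      have e : (n⁻¹ * g * (s' : G) * (n⁻¹ * g)⁻¹) * (n⁻¹ * g * x * (n⁻¹ * g)⁻¹) =
          (n⁻¹ * g * x * (n⁻¹ * g)⁻¹) * (n⁻¹ * g * (s' : G) * (n⁻¹ * g)⁻¹) := by
        calc _ = n⁻¹ * g * ((s' : G) * x) * (n⁻¹ * g)⁻¹ := by group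
          _ = n⁻¹ * g * (x * s') * (n⁻¹ * g)⁻¹ := by rw [hs']
          _ = _ := by group
      rw [hcx] at e
      exact e
  refine le_antisymm ?_ ?_
  · refine Nat.card_le_card_of_injective
      (fun s => (⟨_, hc s s.2⟩ : ↥((P : Subgroup G) ⊓ C))) fun a b hab => Subtype.ext ?_
    simpa using congrArg Subtype.val hab
  · exact Subgroup.card_le_of_le fun z hz => ⟨⟨z, hz.2⟩, hS hz, rfl⟩

/-- A `p`-regular element of the normalizer fixing a nontrivial element of `P` centralizes the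
centralizer of that element in `P`. -/
theorem Hyp.regular_commute (h : Hyp P) {b x r : G}
    (hb : b ∈ Subgroup.normalizer ((P : Subgroup G) : Set G)) (hbo : ¬ p ∣ orderOf b)
    (hx : x ∈ (P : Subgroup G)) (hx1 : x ≠ 1) (hbx : b * x = x * b) (hr : r ∈ (P : Subgroup G))
    (hrx : r * x = x * r) : b * r = r * b := by
  obtain ⟨K, hKn, hKc, hKreg, -⟩ := h.kernels x hx hx1
  let b' : Subgroup.centralizer ({x} : Set G) := ⟨b, mem_centralizer_singleton_iff.2 hbx⟩
  let r' : Subgroup.centralizer ({x} : Set G) := ⟨r, mem_centralizer_singleton_iff.2 hrx⟩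
  have hbK : b' ∈ K := hKreg b' (by rwa [← Subgroup.orderOf_coe])
  have hK : b' * r' * b'⁻¹ * r'⁻¹ ∈ K := by
    rw [show b' * r' * b'⁻¹ * r'⁻¹ = b' * (r' * b'⁻¹ * r'⁻¹) by group]
    exact K.mul_mem hbK (hKn.conj_mem _ (K.inv_mem hbK) _)
  have hP : b * r * b⁻¹ * r⁻¹ ∈ (P : Subgroup G) :=
    mul_mem ((Subgroup.mem_normalizer_iff.1 hb r).1 hr) (inv_mem hr)
  obtain ⟨k, hk⟩ := IsPGroup.iff_orderOf.1 P.2 ⟨_, hP⟩
  rw [Subgroup.orderOf_mk] at hk
  have hd : orderOf (b * r * b⁻¹ * r⁻¹) ∣ Nat.card K := by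
    have := Subgroup.orderOf_dvd_natCard _ hK
    rwa [← Subgroup.orderOf_coe] at this
  have h1 : b * r * b⁻¹ * r⁻¹ = 1 := by
    rcases Nat.eq_zero_or_pos k with hk0 | hk0
    · rwa [hk0, pow_zero, orderOf_eq_one_iff] at hk
    · exact absurd ((hk ▸ dvd_pow_self p hk0.ne').trans hd) hKc
  rwa [mul_inv_eq_one, mul_inv_eq_iff_eq_mul] at h1

/-- An element of the normalizer fixing a nontrivial element of `P` lies in `P C(P)`. -/
theorem Hyp.cent_inter (h : Hyp P) {n x : G}
    (hn : n ∈ Subgroup.normalizer ((P : Subgroup G) : Set G))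
    (hx : x ∈ (P : Subgroup G)) (hx1 : x ≠ 1) (hc : n * x = x * n) :
    n ∈ (P : Subgroup G) ⊔ Subgroup.centralizer ((P : Subgroup G) : Set G) := by
  obtain ⟨a, b, hab, -, ⟨k, hk⟩, hb, haz, hbz'⟩ := BlocksCore.exists_isPPart (p := p) hpf.out n
  have haP : a ∈ (P : Subgroup G) := by
    have han : a ∈ Subgroup.normalizer ((P : Subgroup G) : Set G) :=
      (zpowers_le.2 hn) haz
    have := IsPGroup.inf_normalizer_sylow (IsPGroup.of_card (G := zpowers a) (n := k)
      (by rw [Nat.card_zpowers, hk])) P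
    exact (this.le ⟨mem_zpowers a, han⟩).2
  refine hab ▸ mul_mem_sup haP (mem_centralizer_iff.2 fun r hr => ?_)
  have hbn : b ∈ Subgroup.normalizer ((P : Subgroup G) : Set G) := (zpowers_le.2 hn) hbz'
  have hbx : b * x = x * b := by
    obtain ⟨i, rfl⟩ := mem_zpowers_iff.1 hbz'
    exact ((show Commute n x from hc).zpow_left i).eq
  haveI : Nontrivial (P : Subgroup G) := ⟨⟨x, hx⟩, 1, fun e => hx1 (congrArg Subtype.val e)⟩
  haveI := P.2.center_nontrivial
  obtain ⟨z, hz, hz1⟩ := (Subgroup.bot_or_exists_ne_one _).resolve_left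
    (Subgroup.nontrivial_iff_ne_bot _ |>.1 ‹Nontrivial (Subgroup.center (P : Subgroup G))›)
  have hzc : ∀ q ∈ (P : Subgroup G), q * (z : G) = z * q := fun q hq =>
    congrArg Subtype.val (Subgroup.mem_center_iff.1 hz ⟨q, hq⟩)
  have hbz : b * (z : G) = z * b :=
    h.regular_commute hbn hb hx hx1 hbx z.2 (hzc x hx).symm
  exact (h.regular_commute hbn hb z.2 (fun e => hz1 (Subtype.ext e)) hbz hr (hzc r hr)).symm

end Cfsg.Agent.PComp40
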