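import Cfsg.Agent.PComp40.Group.Basic
import Mathlib.GroupTheory.SemidirectProduct
import Mathlib.GroupTheory.Perm.Cycle.Type

/-!
# The normalizer and its Frobenius quotient
-/

set_option autoImplicit false
set_option linter.style.haveILetI false

namespace Cfsg.Agent.PComp40

open Subgroup

universe u

variable {G : Type u} [Group G] {p : ℕ} {P : Sylow p G}

theorem Hyp.ne_bot (h : Hyp P) : (P : Subgroup G) ≠ ⊥ := fun e =>
  h.not_normal (by rw [e]; infer_instance)

/-- An element of `P C(P)` induces on `P` the same as an element of `P`. -/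
theorem exists_inner {n : G}
    (hn : n ∈ (P : Subgroup G) ⊔ Subgroup.centralizer ((P : Subgroup G) : Set G)) :
    ∃ a ∈ (P : Subgroup G), ∀ x ∈ (P : Subgroup G), n * x * n⁻¹ = a * x * a⁻¹ := by
  obtain ⟨c, hc, a, ha, rfl⟩ := Coprime.exists_mul_of_mem_sup
    (N := Subgroup.centralizer ((P : Subgroup G) : Set G))
    (fun q hq => Subgroup.mem_normalizer_iff.2 fun z => by
      simp only [mem_centralizer_iff, SetLike.mem_coe]
      constructor
      · intro hz r hr
        have := hz (q⁻¹ * r * q) (mul_mem (mul_mem (inv_mem hq) hr) hq)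
        calc r * (q * z * q⁻¹) = q * ((q⁻¹ * r * q) * z) * q⁻¹ := by group
          _ = q * (z * (q⁻¹ * r * q)) * q⁻¹ := by rw [this]
          _ = _ := by group
      · intro hz r hr
        have := hz (q * r * q⁻¹) (mul_mem (mul_mem hq hr) (inv_mem hq))
        calc r * z = q⁻¹ * ((q * r * q⁻¹) * (q * z * q⁻¹)) * q := by group
          _ = q⁻¹ * ((q * z * q⁻¹) * (q * r * q⁻¹)) * q := by rw [this]
          _ = _ := by group)
    (show n ∈ Subgroup.centralizer ((P : Subgroup G) : Set G) ⊔ (P : Subgroup G) by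
      rw [sup_comm]; exact hn)
  refine ⟨a, ha, fun x hx => ?_⟩
  have hax : a * x * a⁻¹ ∈ (P : Subgroup G) := mul_mem (mul_mem ha hx) (inv_mem ha)
  calc c * a * x * (c * a)⁻¹ = c * (a * x * a⁻¹) * c⁻¹ := by group
    _ = _ := mul_inv_eq_iff_eq_mul.2 (mem_centralizer_iff.1 hc _ hax).symm

variable [Finite G] [hpf : Fact p.Prime]

theorem Hyp.exists_outer (h : Hyp P) :
    ∃ n ∈ Subgroup.normalizer ((P : Subgroup G) : Set G),
      n ∉ (P : Subgroup G) ⊔ Subgroup.centralizer ((P : Subgroup G) : Set G) := by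
  by_contra hcon
  push Not at hcon
  have hnc : Cfsg.HasNormalPComplement p G := by
    refine Transfer.hasNormalPComplement_of_control P fun x hx y hy hxy => ?_
    obtain ⟨n, hn, hnx⟩ := h.fusion x hx y hy hxy
    obtain ⟨a, ha, hax⟩ := exists_inner (hcon n hn)
    exact ⟨a, ha, (hax x hx).symm.trans hnx⟩
  have hndvd := Transfer.hasNormalPComplement_iff_not_dvd.1 hnc
  have hbot : Cfsg.pResidual p G = ⊥ := le_bot_iff.1 (h.core ▸
    le_sSup ⟨Transfer.pResidual_normal, (hpf.out.coprime_iff_not_dvd.2 hndvd).symm⟩)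
  have hPtop : (P : Subgroup G) = ⊤ := by
    have := Transfer.sylow_sup_pResidual_eq_top P
    rwa [hbot, sup_bot_eq] at this
  exact h.not_normal (by rw [hPtop]; infer_instance)

theorem Hyp.exists_commutator (h : Hyp P) {x : G} (hx : x ∈ (P : Subgroup G)) :
    ∃ n ∈ Subgroup.normalizer ((P : Subgroup G) : Set G),
      ∃ y ∈ (P : Subgroup G), n * y * n⁻¹ * y⁻¹ = x := by
  obtain ⟨n, hn, hnout⟩ := h.exists_outer
  let f : ↥(P : Subgroup G) → ↥(P : Subgroup G) := fun y =>
    ⟨n * y * n⁻¹ * (y : G)⁻¹,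
      mul_mem ((Subgroup.mem_normalizer_iff.1 hn y).1 y.2) (inv_mem y.2)⟩
  have hinj : Function.Injective f := fun y y' hyy => by
    have e : n * (y : G) * n⁻¹ * (y : G)⁻¹ = n * (y' : G) * n⁻¹ * (y' : G)⁻¹ :=
      congrArg Subtype.val hyy
    have hw : n * ((y' : G)⁻¹ * y) = ((y' : G)⁻¹ * y) * n := by
      calc n * ((y' : G)⁻¹ * y)
          = n * (y' : G)⁻¹ * n⁻¹ * (n * (y : G) * n⁻¹ * (y : G)⁻¹) * y * n := by group
        _ = n * (y' : G)⁻¹ * n⁻¹ * (n * (y' : G) * n⁻¹ * (y' : G)⁻¹) * y * n := by rw [e]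
        _ = _ := by group
    by_contra hne
    exact hnout (h.cent_inter hn (mul_mem (inv_mem y'.2) y.2)
      (fun e1 => hne (Subtype.ext (inv_mul_eq_one.1 e1).symm)) hw)
  obtain ⟨y, hy⟩ := (Finite.injective_iff_surjective.1 hinj) ⟨x, hx⟩
  exact ⟨n, hn, y, y.2, congrArg Subtype.val hy⟩

theorem Hyp.exists_isV (h : Hyp P) : ∃ x, IsV P x := by
  haveI : Nontrivial (P : Subgroup G) := (Subgroup.nontrivial_iff_ne_bot _).2 h.ne_bot
  haveI := P.2.center_nontrivial
  obtain ⟨k, hk, hk'⟩ := ((P.2.to_subgroup (Subgroup.center (P : Subgroup G))).nontrivial_iff_card).1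
    inferInstance
  obtain ⟨z, hz⟩ := exists_prime_orderOf_dvd_card' (G := Subgroup.center (P : Subgroup G)) p
    (hk' ▸ dvd_pow_self p hk.ne')
  refine ⟨((z : (P : Subgroup G)) : G), (z : (P : Subgroup G)).2, ?_, fun y hy => ?_⟩
  · rw [Subgroup.orderOf_coe, Subgroup.orderOf_coe, hz]
  · exact (congrArg Subtype.val (Subgroup.mem_center_iff.1 z.2 ⟨y, hy⟩)).symm

theorem Hyp.exists_frame (h : Hyp P) :
    ∃ (L : Type u) (_ : Group L) (_ : Fintype L), Nonempty (Frame P L) := by
  classical
  set N := Subgroup.normalizer ((P : Subgroup G) : Set G) with hN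
  set P' := (P : Subgroup G).subgroupOf N with hP'
  have hcop : Nat.Coprime (Nat.card P') P'.index := by
    obtain ⟨k, hk⟩ := IsPGroup.iff_card.1 P.2
    rw [hP', Nat.card_congr (Subgroup.subgroupOfEquivOfLe Subgroup.le_normalizer).toEquiv, hk]
    exact Nat.Coprime.pow_left _ (hpf.out.coprime_iff_not_dvd.2
      ((P.subtype Subgroup.le_normalizer).not_dvd_index))
  obtain ⟨A, hA⟩ := Subgroup.exists_right_complement'_of_coprime hcop
  let φ : N →* MulAut (P : Subgroup G) := (P : Subgroup G).normalizerMonoidHom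
  have hφ : ∀ (n : N) (k : (P : Subgroup G)), ((φ n k : (P : Subgroup G)) : G) = n * k * (n : G)⁻¹ :=
    fun n k => rfl
  let B := A.map φ
  have hAp : ¬ p ∣ Nat.card A := by
    rw [← hA.symm.index_eq_card]
    exact (P.subtype Subgroup.le_normalizer).not_dvd_index
  have hdec : ∀ n : N, ∃ m : (P : Subgroup G), ∃ a ∈ A, (n : G) = m * (a : N) := fun n => by
    obtain ⟨⟨m, a⟩, hma⟩ := hA.surjective n
    exact ⟨⟨((m : N) : G), m.2⟩, a, a.2, congrArg Subtype.val hma.symm⟩
  -- an element of the complement inducing an inner automorphism acts trivially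
  have htriv : ∀ a ∈ A, (a : G) ∈ (P : Subgroup G) ⊔
      Subgroup.centralizer ((P : Subgroup G) : Set G) → φ a = 1 := by
    intro a ha hmem
    obtain ⟨r, hr, hr'⟩ := exists_inner hmem
    let r' : N := ⟨r, Subgroup.le_normalizer hr⟩
    have he : φ a = φ r' := MulEquiv.ext fun k => Subtype.ext (by rw [hφ, hφ]; exact hr' k k.2)
    rw [← orderOf_eq_one_iff]
    obtain ⟨k, hk⟩ := IsPGroup.iff_orderOf.1 P.2 ⟨r, hr⟩
    have h1 : orderOf (φ a) ∣ p ^ k := by
      rw [he, ← hk, Subgroup.orderOf_mk, ← Subgroup.orderOf_mk r (Subgroup.le_normalizer hr)]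
      exact orderOf_map_dvd φ _
    have h2 : orderOf (φ a) ∣ Nat.card A := by
      refine (orderOf_map_dvd φ a).trans ?_
      exact Subgroup.orderOf_dvd_natCard _ ha
    exact Nat.Coprime.eq_one_of_dvd
      ((Nat.Coprime.pow_right k ((hpf.out.coprime_iff_not_dvd.2 hAp).symm)).coprime_dvd_left h2) h1
  have hfix : ∀ a ∈ A, ∀ m k : (P : Subgroup G), k ≠ 1 →
      (m : G) * ((a : N) : G) * k = k * ((m : G) * ((a : N) : G)) → φ a = 1 := by
    intro a ha m k hk hmk
    refine htriv a ha ?_
    have := h.cent_inter (mul_mem (Subgroup.le_normalizer m.2) a.2) k.2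
      (fun e => hk (Subtype.ext e)) hmk
    simpa using mul_mem (inv_mem (mem_sup_left (T := Subgroup.centralizer
      ((P : Subgroup G) : Set G)) m.2)) this
  haveI : Finite (MulAut (P : Subgroup G)) := inferInstance
  haveI : Finite (↥(P : Subgroup G) ⋊[B.subtype] ↥B) := Finite.of_equiv _ SemidirectProduct.equivProd.symm
  let inl : (P : Subgroup G) →* (↥(P : Subgroup G) ⋊[B.subtype] ↥B) := SemidirectProduct.inl
  have hker : inl.range = (SemidirectProduct.rightHom : (↥(P : Subgroup G) ⋊[B.subtype] ↥B) →* B).ker :=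
    SemidirectProduct.range_inl_eq_ker_rightHom
  have hindex : inl.range.index = Nat.card B := by
    rw [hker, Subgroup.index_ker, MonoidHom.range_eq_top.2 SemidirectProduct.rightHom_surjective,
      Subgroup.card_top]
  refine ⟨(↥(P : Subgroup G) ⋊[B.subtype] ↥B), inferInstance, Fintype.ofFinite (↥(P : Subgroup G) ⋊[B.subtype] ↥B), ⟨{
    K := inl.range
    normal := hker ▸ MonoidHom.normal_ker _
    iso := (MonoidHom.ofInjective (f := inl) SemidirectProduct.inl_injective).symm
    ne_top := ?_, centralizer_le := ?_, conj_iff := ?_, coprime := ?_ }⟩⟩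
  · intro htop
    obtain ⟨n, hn, hnout⟩ := h.exists_outer
    obtain ⟨m, a, ha, hna⟩ := hdec ⟨n, hn⟩
    have hone : φ a = 1 := by
      have hb : (SemidirectProduct.inr (⟨φ a, a, ha, rfl⟩ : B) : (↥(P : Subgroup G) ⋊[B.subtype] ↥B)) ∈ inl.range :=
        htop ▸ Subgroup.mem_top _
      obtain ⟨k, hk⟩ := hb
      exact (congrArg (fun l : (↥(P : Subgroup G) ⋊[B.subtype] ↥B) => ((l.right : B) : MulAut (P : Subgroup G))) hk).symm
    refine hnout (show n ∈ _ from ?_)
    rw [show n = _ from hna]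
    refine mul_mem_sup m.2 (mem_centralizer_iff.2 fun r hr => ?_)
    have := congrArg Subtype.val (DFunLike.congr_fun hone ⟨r, hr⟩)
    rw [hφ] at this
    exact (mul_inv_eq_iff_eq_mul.1 this).symm
  · rintro _ ⟨k, rfl⟩ hk1 g hg
    rw [hker, MonoidHom.mem_ker]
    obtain ⟨a, ha, hga⟩ := g.right.2
    refine Subtype.ext (hga.symm.trans (hfix a ha g.left k (fun e => hk1 (by rw [e, map_one])) ?_))
    have hcm := congrArg (fun l : (↥(P : Subgroup G) ⋊[B.subtype] ↥B) => ((l.left : (P : Subgroup G)) : G))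
      (mem_centralizer_singleton_iff.1 hg)
    simp only [inl, SemidirectProduct.mul_left, SemidirectProduct.left_inl,
      SemidirectProduct.right_inl, map_one, MulAut.one_apply, Subgroup.coe_mul,
      Subgroup.coe_subtype, ← hga, hφ] at hcm
    calc (g.left : G) * ((a : N) : G) * k
        = (g.left : G) * (((a : N) : G) * k * ((a : N) : G)⁻¹) * ((a : N) : G) := by group
      _ = _ := by rw [hcm]; group
  · rintro ⟨_, k, rfl⟩ ⟨_, k', rfl⟩
    have e : ∀ z : (P : Subgroup G),
        (MonoidHom.ofInjective (f := inl) SemidirectProduct.inl_injective).symm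
          ⟨inl z, z, rfl⟩ = z := fun z => by
      rw [MulEquiv.symm_apply_eq]; rfl
    rw [show ((MonoidHom.ofInjective (f := inl) SemidirectProduct.inl_injective).symm
          ⟨inl k, k, rfl⟩ : (P : Subgroup G)) = k from e k,
      show ((MonoidHom.ofInjective (f := inl) SemidirectProduct.inl_injective).symm
          ⟨inl k', k', rfl⟩ : (P : Subgroup G)) = k' from e k', isConj_iff, isConj_iff]
    constructor
    · intro hconj
      obtain ⟨n, hn, hnk⟩ := h.fusion _ k.2 _ k'.2 hconj
      obtain ⟨m, a, ha, hna⟩ := hdec ⟨n, hn⟩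
      refine ⟨SemidirectProduct.inl m * SemidirectProduct.inr ⟨φ a, a, ha, rfl⟩, ?_⟩
      have hk' : k' = m * φ a k * m⁻¹ := Subtype.ext (by
        rw [← hnk, show n = _ from hna]
        simp only [Subgroup.coe_mul, Subgroup.coe_inv, hφ]
        group)
      rw [hk']
      simp only [inl, map_mul, map_inv, mul_inv_rev]
      rw [show (φ a k) = B.subtype ⟨φ a, a, ha, rfl⟩ k from rfl, SemidirectProduct.inl_aut, map_inv]
      group
    · rintro ⟨g, hg⟩
      obtain ⟨a, ha, hga⟩ := g.right.2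
      refine ⟨(g.left : G) * ((a : N) : G), ?_⟩
      rw [mul_inv_eq_iff_eq_mul] at hg
      have hcm := congrArg (fun l : (↥(P : Subgroup G) ⋊[B.subtype] ↥B) => ((l.left : (P : Subgroup G)) : G)) hg
      simp only [inl, SemidirectProduct.mul_left, SemidirectProduct.left_inl,
        SemidirectProduct.right_inl, map_one, MulAut.one_apply, Subgroup.coe_mul,
        Subgroup.coe_subtype, ← hga, hφ] at hcm
      calc (g.left : G) * ((a : N) : G) * k * ((g.left : G) * ((a : N) : G))⁻¹
          = (g.left : G) * (((a : N) : G) * k * ((a : N) : G)⁻¹) * (g.left : G)⁻¹ := by group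
        _ = _ := by rw [hcm]; group
  · rw [hindex]
    exact fun hd => hAp (hd.trans (Subgroup.card_map_dvd A φ))

end Cfsg.Agent.PComp40
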