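import Cfsg.Agent.PComp40.Group.Basic
import Cfsg.Agent.Lib.Thompson.PSolvable

/-!
# Products of conjugates of central elements of order `p`
-/

set_option autoImplicit false
set_option linter.style.haveILetI false
set_option linter.unusedSectionVars false

namespace Cfsg.Agent.PComp40

open Subgroup

universe u

variable {G : Type u} [Group G] {p : ℕ} {P : Sylow p G} [Finite G] [hpf : Fact p.Prime]

/-- A `p`-subgroup can be moved into `P`. -/
theorem exists_conj_mem (P : Sylow p G) {Q : Subgroup G} (hQ : IsPGroup p Q) :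
    ∃ g : G, ∀ q ∈ Q, g * q * g⁻¹ ∈ (P : Subgroup G) := by
  obtain ⟨R, hR⟩ := hQ.exists_le_sylow
  obtain ⟨g, hg⟩ := MulAction.exists_smul_eq G R P
  refine ⟨g, fun q hq => ?_⟩
  rw [← hg, Sylow.coe_subgroup_smul]
  exact Subgroup.smul_mem_pointwise_smul q (MulAut.conj g) _ (hR hq)

/-- A member of `P` conjugate to one of `V` belongs to `V`. -/
theorem Hyp.isV_of_isConj (h : Hyp P) {v r : G} (hv : IsV P v) (hr : r ∈ (P : Subgroup G))
    (hvr : IsConj v r) : IsV P r := by
  obtain ⟨n, hn, hnv⟩ := h.fusion v hv.1 r hr (isConj_iff.1 hvr)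
  refine ⟨hr, ?_, fun y hy => ?_⟩
  · rw [← hnv, ← MulAut.conj_apply, MulEquiv.orderOf_eq]
    exact hv.2.1
  · have hy' : n⁻¹ * y * n ∈ (P : Subgroup G) := by
      simpa using (Subgroup.mem_normalizer_iff.1 (inv_mem hn) y).1 hy
    calc r * y = n * (v * (n⁻¹ * y * n)) * n⁻¹ := by rw [← hnv]; group
      _ = n * ((n⁻¹ * y * n) * v) * n⁻¹ := by rw [hv.2.2 _ hy']
      _ = y * r := by rw [← hnv]; group

/-- A member of a `p`-subgroup conjugate to one of `V` is central in it. -/
theorem Hyp.central_in (h : Hyp P) {Q : Subgroup G} (hQ : IsPGroup p Q) {v r : G} (hv : IsV P v)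
    (hvr : IsConj v r) (hr : r ∈ Q) {q : G} (hq : q ∈ Q) : r * q = q * r := by
  obtain ⟨g, hg⟩ := exists_conj_mem P hQ
  have hV := h.isV_of_isConj hv (hg r hr) (hvr.trans (isConj_iff.2 ⟨g, rfl⟩))
  have := hV.2.2 _ (hg q hq)
  calc r * q = g⁻¹ * ((g * r * g⁻¹) * (g * q * g⁻¹)) * g := by group
    _ = g⁻¹ * ((g * q * g⁻¹) * (g * r * g⁻¹)) * g := by rw [this]
    _ = _ := by group

/-- Two conjugates of central elements of order `p` generate an abelian `p`-group modulo a normal
subgroup of order prime to `p`; so their product has `p`-part conjugate to a member of `V`, or the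
second is conjugate to the inverse of the first. -/
theorem Hyp.product (h : Hyp P) {u v y : G} (hu : IsV P u) (hv : IsV P v) (hy : IsConj v y) :
    (IsConj u⁻¹ y ∧ ¬ p ∣ orderOf (u * y) ∧
        ∀ k, 1 < k → k < p → p ∣ orderOf (u * y ^ k)) ∨
      ∃ w s, IsV P w ∧ Cfsg.IsPPart p (u * y) s ∧ IsConj w s := by
  have hyo : orderOf y = p := by
    obtain ⟨c, rfl⟩ := isConj_iff.1 hy
    rw [← MulAut.conj_apply, MulEquiv.orderOf_eq]
    exact hv.2.1
  set X := Subgroup.closure ({u, y} : Set G) with hX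
  have hXs : Cfsg.IsPSolvable p X := h.psolv u y hu.2.1 hyo
  let uX : X := ⟨u, Subgroup.subset_closure (by simp)⟩
  let yX : X := ⟨y, Subgroup.subset_closure (by simp)⟩
  have hpg : ∀ x : X, orderOf (x : G) = p → IsPGroup p (zpowers x) := fun x hx =>
    IsPGroup.of_card (n := 1) (by rw [Nat.card_zpowers, ← Subgroup.orderOf_coe, hx, pow_one])
  set K := Cfsg.pPrimeCore p X with hK
  let π : X →* X ⧸ K := QuotientGroup.mk' K
  have hπs : Function.Surjective π := QuotientGroup.mk'_surjective K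
  have hQs : Cfsg.IsPSolvable p (X ⧸ K) := Thompson.isPSolvable_quotient K hXs
  have hQ0 : Cfsg.pPrimeCore p (X ⧸ K) = ⊥ := Thompson.pPrimeCore_quotient_pPrimeCore
  set O := Cfsg.pCore p (X ⧸ K) with hOdef
  have hcent : ∀ (S : Sylow p X) (r : X) (w : G), IsV P w → IsConj w (r : G) →
      r ∈ (S : Subgroup X) → ∀ q ∈ (S : Subgroup X), r * q = q * r := by
    intro S r w hw hwr hrS q hq
    exact Subtype.ext (h.central_in (S.2.map X.subtype) hw hwr ⟨r, hrS, rfl⟩ ⟨q, hq, rfl⟩)
  have hmemO : ∀ (r : X) (w : G), IsV P w → IsConj w (r : G) → π r ∈ O := by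
    intro r w hw hwr
    have hro : orderOf (r : G) = p := by
      obtain ⟨c, hc⟩ := isConj_iff.1 hwr
      rw [← hc, ← MulAut.conj_apply, MulEquiv.orderOf_eq]
      exact hw.2.1
    obtain ⟨S, hS⟩ := (hpg r hro).exists_le_sylow
    refine Thompson.centralizer_pCore_le hQs hQ0 (mem_centralizer_iff.2 fun o ho => ?_)
    obtain ⟨q, hq, rfl⟩ : o ∈ (S : Subgroup X).map π := by
      have := Thompson.pCore_le_sylow (S.mapSurjective hπs) ho
      rwa [Sylow.coe_mapSurjective] at this
    rw [← map_mul, ← map_mul, hcent S r w hw hwr (hS (mem_zpowers r)) q hq]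
  have huO := hmemO uX u hu (IsConj.refl u)
  have hyO := hmemO yX v hv hy
  obtain ⟨R, hR⟩ := (hpg uX hu.2.1).exists_le_sylow
  have huR : uX ∈ (R : Subgroup X) := hR (mem_zpowers uX)
  obtain ⟨S, hS⟩ := (hpg yX hyo).exists_le_sylow
  obtain ⟨c, hc⟩ := MulAction.exists_smul_eq X S R
  set y' : X := c * yX * c⁻¹ with hy'
  have hy'R : y' ∈ (R : Subgroup X) := by
    rw [← hc, Sylow.coe_subgroup_smul]
    exact Subgroup.smul_mem_pointwise_smul yX (MulAut.conj c) _ (hS (mem_zpowers yX))
  have hy'G : IsConj v (y' : G) := hy.trans (isConj_iff.2 ⟨c, by simp [y', yX]⟩)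
  -- the quotient is abelian and equal to `O`
  have hOle : O ≤ (R : Subgroup X).map π := by
    have := Thompson.pCore_le_sylow (R.mapSurjective hπs) (p := p)
    rwa [Sylow.coe_mapSurjective] at this
  have huy : π uX * π yX = π yX * π uX := by
    obtain ⟨q, hq, hqy⟩ := hOle hyO
    rw [← hqy, ← map_mul, ← map_mul,
      hcent R uX u hu (IsConj.refl u) huR q hq]
  set A := Subgroup.closure ({π uX, π yX} : Set (X ⧸ K)) with hA
  have hgen : Subgroup.closure ({uX, yX} : Set X) = ⊤ := by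
    apply Subgroup.map_injective X.subtype_injective
    rw [MonoidHom.map_closure, ← MonoidHom.range_eq_map, Subgroup.range_subtype]
    simp [Set.image_insert_eq, Set.image_singleton, uX, yX, hX]
  have hAtop : A = ⊤ := by
    have := congrArg (Subgroup.map π) hgen
    rwa [MonoidHom.map_closure, ← MonoidHom.range_eq_map, MonoidHom.range_eq_top.2 hπs,
      Set.image_insert_eq, Set.image_singleton] at this
  have hOtop : O = ⊤ := top_le_iff.1 (hAtop ▸ (Subgroup.closure_le O).2 (by
    rintro z (rfl | rfl)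
    · exact huO
    · exact hyO))
  have hab : ∀ a b : X ⧸ K, a * b = b * a := by
    have hcl : IsMulCommutative ↥A := Subgroup.isMulCommutative_closure (by
      rintro a (rfl | rfl) b (rfl | rfl)
      exacts [rfl, huy, huy.symm, rfl])
    intro a b
    exact congrArg Subtype.val
      (hcl.is_comm.comm ⟨a, hAtop ▸ mem_top a⟩ ⟨b, hAtop ▸ mem_top b⟩)
  have hinjR : ∀ q ∈ (R : Subgroup X), π q = 1 → q = 1 := by
    intro q hq hq1
    have : q ∈ (R : Subgroup X) ⊓ K := ⟨hq, (QuotientGroup.eq_one_iff q).1 hq1⟩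
    rwa [Thompson.inf_eq_bot_of_isPGroup_of_coprime (p := p) R.2
      Thompson.card_pPrimeCore_coprime, mem_bot] at this
  have hpgQ : IsPGroup p (X ⧸ K) :=
    Thompson.pCore_eq_top_iff.1 hOtop
  -- elements of order prime to `p` vanish in the quotient
  have hkill : ∀ x : X, ¬ p ∣ orderOf x → π x = 1 := by
    intro x hx
    obtain ⟨k, hk⟩ := IsPGroup.iff_orderOf.1 hpgQ (π x)
    rcases Nat.eq_zero_or_pos k with hk0 | hk0
    · rwa [hk0, pow_zero, orderOf_eq_one_iff] at hk
    · exact absurd ((hk ▸ dvd_pow_self p hk0.ne').trans (orderOf_map_dvd π x)) hx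
  obtain ⟨s, t, hst, hcomm, hs, ht, -, -⟩ :=
    BlocksCore.exists_isPPart (G := X) hpf.out (uX * yX)
  have hpp : Cfsg.IsPPart p (u * y) (s : G) :=
    ⟨t, congrArg Subtype.val hst, congrArg Subtype.val hcomm.eq,
      hs.imp fun k hk => by rw [Subgroup.orderOf_coe, hk], by rwa [Subgroup.orderOf_coe]⟩
  obtain ⟨ks, hks⟩ := id hs
  obtain ⟨T, hT⟩ := (IsPGroup.of_card (G := zpowers s) (n := ks)
    (by rw [Nat.card_zpowers, hks]) : IsPGroup p (zpowers s)).exists_le_sylow
  obtain ⟨d, hd⟩ := MulAction.exists_smul_eq X T R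
  set s' : X := d * s * d⁻¹ with hs'
  have hs'R : s' ∈ (R : Subgroup X) := by
    rw [← hd, Sylow.coe_subgroup_smul]
    exact Subgroup.smul_mem_pointwise_smul s (MulAut.conj d) _ (hT (mem_zpowers s))
  have hπy : π y' = π yX := by
    rw [hy', map_mul, map_mul, hab (π c), mul_assoc, ← map_mul, mul_inv_cancel, map_one, mul_one]
  have hs'eq : s' = uX * y' := by
    refine mul_inv_eq_one.1 (hinjR _ (mul_mem hs'R (inv_mem (mul_mem huR hy'R))) ?_)
    rw [map_mul, map_inv, mul_inv_eq_one, map_mul π uX, hπy]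
    calc π s' = π s := by
          rw [hs', map_mul, map_mul, hab (π d), mul_assoc, ← map_mul, mul_inv_cancel, map_one,
            mul_one]
      _ = π (s * t) := by rw [map_mul, hkill t ht, mul_one]
      _ = _ := by rw [hst, map_mul]
  have hcu : uX * y' = y' * uX := hcent R uX u hu (IsConj.refl u) huR y' hy'R
  by_cases h1 : uX * y' = 1
  · left
    have hyu : y' = uX⁻¹ := eq_inv_of_mul_eq_one_right h1
    refine ⟨?_, ?_, fun k hk1 hkp => ?_⟩
    · refine (IsConj.symm (isConj_iff.2 ⟨(c : G), ?_⟩))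
      exact congrArg Subtype.val hyu
    · have hs1 : s = 1 := by
        rw [h1, hs', mul_inv_eq_one] at hs'eq
        exact mul_eq_left.1 hs'eq
      rw [hs1, one_mul] at hst
      rwa [← show ((uX * yX : X) : G) = u * y from rfl, ← hst, Subgroup.orderOf_coe]
    · by_contra hndvd
      have h0 := hkill (uX * yX ^ k) (by rwa [← Subgroup.orderOf_coe])
      rw [map_mul, map_pow, ← hπy, ← map_pow, ← map_mul] at h0
      have h2 := congrArg Subtype.val (hinjR _ (mul_mem huR (pow_mem hy'R k)) h0)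
      rw [hyu] at h2
      simp only [Subgroup.coe_mul, Subgroup.coe_pow, Subgroup.coe_inv, uX, inv_pow,
        Subgroup.coe_one, mul_inv_eq_one] at h2
      have h3 : u ^ (k - 1) = 1 := by
        have : u ^ (k - 1) * u = 1 * u := by
          rw [one_mul, ← pow_succ, Nat.sub_add_cancel hk1.le, ← h2]
        exact mul_right_cancel this
      have := Nat.le_of_dvd (by omega) (hu.2.1 ▸ orderOf_dvd_of_pow_eq_one h3)
      omega
  · right
    obtain ⟨g, hg⟩ := exists_conj_mem P (R.2.map X.subtype)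
    refine ⟨g * ((uX * y' : X) : G) * g⁻¹, s, ⟨?_, ?_, ?_⟩, hpp, ?_⟩
    · exact hg _ ⟨_, mul_mem huR hy'R, rfl⟩
    · rw [← MulAut.conj_apply, MulEquiv.orderOf_eq, Subgroup.orderOf_coe]
      refine orderOf_eq_prime ?_ h1
      have hy'o : orderOf y' = p := by
        rw [hy', ← MulAut.conj_apply, MulEquiv.orderOf_eq, ← Subgroup.orderOf_coe]
        exact hyo
      have huo : orderOf uX = p := by rw [← Subgroup.orderOf_coe]; exact hu.2.1
      rw [(show Commute uX y' from hcu).mul_pow, ← huo, pow_orderOf_eq_one, huo, ← hy'o,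
        pow_orderOf_eq_one, one_mul]
    · intro q hq
      have h2 := h.isV_of_isConj hu (hg _ ⟨uX, huR, rfl⟩) (isConj_iff.2 ⟨g, rfl⟩)
      have h3 := h.isV_of_isConj hv (hg _ ⟨y', hy'R, rfl⟩)
        (hy'G.trans (isConj_iff.2 ⟨g, rfl⟩))
      have e : g * ((uX * y' : X) : G) * g⁻¹ = (g * (uX : G) * g⁻¹) * (g * (y' : G) * g⁻¹) := by
        rw [Subgroup.coe_mul]; group
      rw [e]
      exact ((show Commute _ q from h2.2.2 q hq).mul_left (h3.2.2 q hq)).eq
    · rw [← hs'eq]
      refine (IsConj.symm (isConj_iff.2 ⟨g * d, ?_⟩))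
      rw [hs']
      simp only [Subgroup.coe_mul, Subgroup.coe_inv]
      group

end Cfsg.Agent.PComp40
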